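import Mathlib
import Cfsg.Agent.Helper1.CNOdd2

/-!
CALL S1438 (helper2), piece ST (helper8, double): the structure of row S1355 inside the type `↥M`.
-/

set_option autoImplicit false

namespace Cfsg.Agent.Helper8

open Cfsg Subgroup

universe u

variable {G : Type u} [Group G] [Finite G]

/-- ST. The structure of row S1355, inside `↥M`. -/
theorem bg157_struct {M : Subgroup G} (h1 : fittingHallOf M ≤ sigmaCore M)
    (h2 : sigmaCore M ≤ ⁅M, M⁆)
    (h3 : Group.IsNilpotent ↥((commutator ↥M).map (QuotientGroup.mk' (fittingHall ↥M)))) :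
    fittingHall ↥M ≤ piCore (sigma M) ↥M ∧ Group.IsNilpotent ↥(fittingHall ↥M) ∧
      Group.IsNilpotent ↥((piCore (sigma M) ↥M).map (QuotientGroup.mk' (fittingHall ↥M))) := by
  refine ⟨?_, Cfsg.Agent.Helper1.cnodd_fittingHall_isNilpotent ↥M, ?_⟩
  · unfold fittingHallOf sigmaCore at h1
    exact (Subgroup.map_le_map_iff_of_injective M.subtype_injective).mp h1
  · have h4 : piCore (sigma M) ↥M ≤ commutator ↥M := by
      unfold sigmaCore at h2
      rw [← Subgroup.map_subtype_commutator] at h2
      exact (Subgroup.map_le_map_iff_of_injective M.subtype_injective).mp h2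
    exact Cfsg.Agent.Helper25.isNilpotent_of_le (Subgroup.map_mono h4) h3

end Cfsg.Agent.Helper8
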