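/-
helper8: CALL BG36 (helper2, row S1436), piece B1: two complements of `N_σ` in `N` are conjugate
by an element of `N`.
-/
import Mathlib
import Cfsg.Agent.Helper1.BG13iEG

set_option autoImplicit false
set_option linter.unusedSectionVars false
set_option linter.unusedVariables false

namespace Cfsg.Agent.Helper8

open Cfsg Subgroup

universe u

variable {G : Type u} [Group G] [Finite G]

/-- PIECE B1 (Hall conjugacy): two complements of `N_σ` in `N` are conjugate by an element of `N`. -/
theorem bg36_compl_conj (hG : IsMinSimpleOddOrder G) {N E₁ E₂ : Subgroup G} (hN : IsCoatom N)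
    (h₁ : IsComplIn E₁ (sigmaCore N) N) (h₂ : IsComplIn E₂ (sigmaCore N) N) :
    ∃ n ∈ N, E₁.map (MulAut.conj n).toMonoidHom = E₂ := by
  obtain ⟨l, hl, hconj⟩ := Cfsg.Agent.Helper1.bg13i_compl_conj hG hN h₁ h₂
  refine ⟨l, hl, ?_⟩
  have hc1 := Cfsg.Agent.Helper23.card_of_isComplIn E₁ _ N h₁
  have hc2 := Cfsg.Agent.Helper23.card_of_isComplIn E₂ _ N h₂
  have hpos : 0 < Nat.card (sigmaCore N) := Nat.card_pos
  have hEE : Nat.card E₂ = Nat.card E₁ := by
    apply Nat.eq_of_mul_eq_mul_right hpos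
    rw [← hc1, ← hc2]
  have hle : E₂ ≤ E₁.map (MulAut.conj l).toMonoidHom := by
    intro x hx
    refine Subgroup.mem_map.mpr ⟨l⁻¹ * x * l, hconj x hx, ?_⟩
    simp [MulAut.conj_apply, mul_assoc]
  symm
  apply Subgroup.eq_of_le_of_card_ge hle
  rw [Subgroup.card_map_of_injective (MulEquiv.injective _), hEE]

end Cfsg.Agent.Helper8
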