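/-
helper8: CALL BG36 (helper2, row S1436), piece B2: conjugating a complement.
-/
import Mathlib
import Cfsg.Agent.Helper54.BG14T4

set_option autoImplicit false
set_option linter.unusedSectionVars false
set_option linter.unusedVariables false

namespace Cfsg.Agent.Helper8

open Cfsg Subgroup

universe u

variable {G : Type u} [Group G] [Finite G]

/-- PIECE B2: conjugating a complement. -/
theorem bg36_conj_compl {M N' N : Subgroup G} {g : G}
    (hg : N'.map (MulAut.conj g).toMonoidHom = N)
    (h : IsComplIn (M ⊓ N') (sigmaCore N') N') :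
    IsComplIn (M.map (MulAut.conj g).toMonoidHom ⊓ N) (sigmaCore N) N := by
  subst hg
  rw [Cfsg.Agent.Helper54.bg14t_sigmaCore_conj]
  have hinj : Function.Injective (MulAut.conj g).toMonoidHom := (MulAut.conj g).injective
  rw [← Subgroup.map_inf M N' _ hinj]
  obtain ⟨h1, h2, h3, h4⟩ := h
  refine ⟨Subgroup.map_mono h1, Subgroup.map_mono h2, ?_, ?_⟩
  · rw [← Subgroup.map_inf _ _ _ hinj, h3, Subgroup.map_bot]
  · rintro _ ⟨m, hm, rfl⟩
    obtain ⟨a, ha, b, hb, rfl⟩ := h4 m hm
    exact ⟨_, Subgroup.mem_map_of_mem _ ha, _, Subgroup.mem_map_of_mem _ hb, map_mul _ a b⟩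

end Cfsg.Agent.Helper8
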