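import Mathlib
import Cfsg.Agent.Helper9.OrdTools2

set_option autoImplicit false
set_option linter.style.haveILetI false
set_option maxHeartbeats 1000000

/-!
# Fixed points on the set of Sylow subgroups (helper8)

* `SylFix.card_fixedBy_modEq_one`: an element centralizing the Sylow `p`-subgroup `P` fixes
  `≡ 1 (mod p)` Sylow `p`-subgroups.
* `SylFix.card_fixedBy_modEq`: an element of order `q ^ k` fixes `≡ n_p (mod q)` Sylow
  `p`-subgroups.
* `SylFix.card_fixedBy_lt`: in a simple group with `n_p > 1` a nonidentity element moves some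
  Sylow `p`-subgroup.
* `SylFix.card_dvd_of_fix_one`: Burnside's lemma for a subgroup whose nonidentity elements fix
  exactly one point.
* `SylFix.sign_of_involution`: the sign of an involution from its number of fixed points.
-/

namespace Cfsg.Agent.Helper8

namespace SylFix

open Subgroup Cfsg.Agent.Helper9.OrdTools

variable {G : Type*} [Group G] [Finite G]

/-- a Sylow subgroup normalized by the Sylow subgroup `P` is `P`. -/
theorem eq_of_le_normalizer {p : ℕ} [Fact p.Prime] (P Q : Sylow p G)
    (h : (P : Subgroup G) ≤ normalizer ((Q : Subgroup G) : Set G)) : Q = P := by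
  have hle : (P : Subgroup G) ≤ (Q : Subgroup G) := mem_sylow_of_mem_normalizer Q P.2 h
  exact Sylow.ext (P.3 Q.2 hle)

/-- the number of Sylow `p`-subgroups fixed by an element `s` centralizing the Sylow
`p`-subgroup `P` is `≡ 1 (mod p)`. -/
theorem card_fixedBy_modEq_one {p : ℕ} [Fact p.Prime] (P : Sylow p G) (s : G)
    (hs : ∀ x ∈ (P : Subgroup G), x * s = s * x) :
    Nat.card (MulAction.fixedBy (Sylow p G) s) ≡ 1 [MOD p] := by
  let S₀ : SubMulAction (↥(P : Subgroup G)) (Sylow p G) :=
    { carrier := MulAction.fixedBy (Sylow p G) s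
      smul_mem' := by
        intro c Q hQ
        rw [MulAction.mem_fixedBy] at hQ
        change s • ((c : G) • Q) = (c : G) • Q
        rw [← mul_smul, ← hs c c.2, mul_smul, hQ] }
  have h := (P.2).card_modEq_card_fixedPoints (↥S₀)
  have hmemP : P ∈ MulAction.fixedBy (Sylow p G) s := by
    rw [MulAction.mem_fixedBy, Sylow.smul_eq_iff_mem_normalizer]
    refine Subgroup.centralizer_le_normalizer _ ?_
    rw [Subgroup.mem_centralizer_iff]
    intro x hx
    exact hs x hx
  have hone : Nat.card (MulAction.fixedPoints (↥(P : Subgroup G)) (↥S₀)) = 1 := by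
    rw [Nat.card_eq_one_iff_unique]
    constructor
    · constructor
      intro a b
      have ha : (a : ↥S₀).1 = P := by
        apply eq_of_le_normalizer
        intro x hx
        have := a.2 ⟨x, hx⟩
        exact (Sylow.smul_eq_iff_mem_normalizer (P := (a : ↥S₀).1)).mp (congrArg Subtype.val this)
      have hb : (b : ↥S₀).1 = P := by
        apply eq_of_le_normalizer
        intro x hx
        have := b.2 ⟨x, hx⟩
        exact (Sylow.smul_eq_iff_mem_normalizer (P := (b : ↥S₀).1)).mp (congrArg Subtype.val this)
      exact Subtype.ext (Subtype.ext (ha.trans hb.symm))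
    · refine ⟨⟨⟨P, hmemP⟩, ?_⟩⟩
      intro c
      apply Subtype.ext
      change (c : G) • P = P
      rw [Sylow.smul_eq_iff_mem_normalizer]
      exact Subgroup.le_normalizer c.2
  rw [hone] at h
  exact h

/-- an element of prime power order `q ^ k` fixes `≡ n_p (mod q)` Sylow `p`-subgroups. -/
theorem card_fixedBy_modEq {p q k : ℕ} [Fact q.Prime] (s : G) (hs : orderOf s = q ^ k) :
    Nat.card (Sylow p G) ≡ Nat.card (MulAction.fixedBy (Sylow p G) s) [MOD q] := by
  have hz : IsPGroup q (zpowers s) := IsPGroup.of_card (n := k) (by rw [Nat.card_zpowers, hs])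
  have h := hz.card_modEq_card_fixedPoints (Sylow p G)
  have heq : MulAction.fixedPoints (zpowers s) (Sylow p G) = MulAction.fixedBy (Sylow p G) s := by
    ext Q
    constructor
    · intro hQ
      exact hQ ⟨s, Subgroup.mem_zpowers s⟩
    · intro hQ g
      have hle : zpowers s ≤ MulAction.stabilizer G Q :=
        (Subgroup.zpowers_le).mpr (MulAction.mem_stabilizer_iff.mpr hQ)
      exact MulAction.mem_stabilizer_iff.mp (hle g.2)
  rw [heq] at h
  exact h

/-- in a simple group with more than one Sylow `p`-subgroup, a nonidentity element moves some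
Sylow `p`-subgroup. -/
theorem card_fixedBy_lt [IsSimpleGroup G] {p : ℕ} [Fact p.Prime]
    (h1 : 1 < Nat.card (Sylow p G)) (s : G) (hs : s ≠ 1) :
    Nat.card (MulAction.fixedBy (Sylow p G) s) < Nat.card (Sylow p G) := by
  by_contra hcon
  push Not at hcon
  apply hs
  apply eq_one_of_smul_sylow h1 s
  intro Q
  have hbij := Function.Injective.bijective_of_nat_card_le
    (f := fun x : MulAction.fixedBy (Sylow p G) s => (x : Sylow p G)) Subtype.coe_injective hcon
  obtain ⟨x, hx⟩ := hbij.2 Q
  have := x.2
  rw [MulAction.mem_fixedBy] at this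
  rw [← hx]
  exact this

omit [Finite G] in
/-- Burnside's lemma for a finite subgroup whose nonidentity elements fix exactly one point. -/
theorem card_dvd_of_fix_one {X : Type*} [MulAction G X] [Finite X] (R : Subgroup G) [Finite R]
    (h : ∀ r ∈ R, r ≠ 1 → Nat.card (MulAction.fixedBy X r) = 1) :
    Nat.card R ∣ Nat.card X + (Nat.card R - 1) := by
  classical
  haveI : Fintype R := Fintype.ofFinite R
  haveI : Fintype X := Fintype.ofFinite X
  have key := MulAction.sum_card_fixedBy_eq_card_orbits_mul_card_group (↥R) X
  have hsum : (∑ g : R, Fintype.card (MulAction.fixedBy X g))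
      = Nat.card X + (Nat.card R - 1) := by
    rw [← Finset.add_sum_erase Finset.univ _ (Finset.mem_univ (1 : R))]
    congr 1
    · rw [← Nat.card_eq_fintype_card]
      have : MulAction.fixedBy X (1 : R) = Set.univ := by
        ext x
        simp
      rw [this]
      exact Nat.card_congr (Equiv.Set.univ X)
    · have hterm : ∀ g ∈ (Finset.univ : Finset R).erase 1,
          Fintype.card (MulAction.fixedBy X g) = 1 := by
        intro g hg
        have hg1 : g ≠ 1 := (Finset.mem_erase.mp hg).1
        rw [← Nat.card_eq_fintype_card]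
        have h' := h (g : G) g.2 (fun hh => hg1 (Subtype.ext hh))
        exact h'
      rw [Finset.sum_congr rfl hterm, Finset.sum_const, Finset.card_erase_of_mem (Finset.mem_univ _),
        Finset.card_univ, smul_eq_mul, mul_one, Nat.card_eq_fintype_card]
  rw [← hsum, key, Nat.card_eq_fintype_card]
  exact Dvd.intro_left _ rfl

/-- the sign of an involution with an odd number of `2`-cycles is `-1`. -/
theorem sign_of_involution {α : Type*} [Fintype α] [DecidableEq α] (σ : Equiv.Perm α)
    (h : σ ^ 2 = 1) (c : ℕ) (hfix : Fintype.card (Function.fixedPoints σ) + 2 * c = Fintype.card α)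
    (hc : Odd c) : Equiv.Perm.sign σ = -1 := by
  have h2 : ∀ n ∈ σ.cycleType, n = 2 := by
    intro n hn
    have hdvd : n ∣ 2 := (Equiv.Perm.dvd_of_mem_cycleType hn).trans (orderOf_dvd_of_pow_eq_one h)
    have hle := Equiv.Perm.two_le_of_mem_cycleType hn
    have := Nat.le_of_dvd (by norm_num) hdvd
    omega
  have hrep := Multiset.eq_replicate_card.mpr h2
  have hsum : σ.cycleType.sum = 2 * Multiset.card σ.cycleType := by
    conv_lhs => rw [hrep]
    rw [Multiset.sum_replicate, smul_eq_mul, mul_comm]
  have hfp := Equiv.Perm.card_fixedPoints σ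
  have hle := Equiv.Perm.sum_cycleType_le σ
  have hcard : Multiset.card σ.cycleType = c := by omega
  rw [Equiv.Perm.sign_of_cycleType, hsum, hcard]
  have : 2 * c + c = 2 * c + c := rfl
  rw [pow_add, pow_mul]
  simp [hc.neg_one_pow]

end SylFix

end Cfsg.Agent.Helper8
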