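import Cfsg.Prelude.Def_Sporadic_a

set_option autoImplicit false
open Cfsg

namespace Cfsg.Agent.Helper8

/-- dot product of binary words -/
def dot (u v : GolayPt → ZMod 2) : ZMod 2 := ∑ i, u i * v i

theorem dot_add_left (u u' v : GolayPt → ZMod 2) : dot (u + u') v = dot u v + dot u' v := by
  unfold dot
  rw [← Finset.sum_add_distrib]
  apply Finset.sum_congr rfl
  intro i _
  simp [add_mul]

theorem dot_add_right (u v v' : GolayPt → ZMod 2) : dot u (v + v') = dot u v + dot u v' := by
  unfold dot
  rw [← Finset.sum_add_distrib]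
  apply Finset.sum_congr rfl
  intro i _
  simp [mul_add]

theorem dot_smul_left (a : ZMod 2) (u v : GolayPt → ZMod 2) : dot (a • u) v = a * dot u v := by
  unfold dot
  rw [Finset.mul_sum]
  apply Finset.sum_congr rfl
  intro i _
  simp [mul_assoc]

theorem dot_smul_right (a : ZMod 2) (u v : GolayPt → ZMod 2) : dot u (a • v) = a * dot u v := by
  unfold dot
  rw [Finset.mul_sum]
  apply Finset.sum_congr rfl
  intro i _
  simp [mul_left_comm]

theorem dot_zero_left (v : GolayPt → ZMod 2) : dot 0 v = 0 := by
  unfold dot; simp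

theorem dot_zero_right (u : GolayPt → ZMod 2) : dot u 0 = 0 := by
  unfold dot; simp

set_option maxRecDepth 100000 in
theorem qr_card : ∀ t : ZMod 23, (support₂ (qrWord t)).card = 12 := by decide +kernel

set_option maxRecDepth 100000 in
theorem qr_dot_qr : ∀ s t : ZMod 23, dot (qrWord s) (qrWord t) = 0 := by decide +kernel

set_option maxRecDepth 100000 in
theorem qr_dot_one : ∀ s : ZMod 23, dot (qrWord s) 1 = 0 := by decide +kernel

set_option maxRecDepth 100000 in
theorem one_dot_qr : ∀ s : ZMod 23, dot 1 (qrWord s) = 0 := by decide +kernel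

set_option maxRecDepth 100000 in
theorem one_dot_one : dot (1 : GolayPt → ZMod 2) 1 = 0 := by decide +kernel

set_option maxRecDepth 100000 in
theorem one_card : (support₂ (1 : GolayPt → ZMod 2)).card = 24 := by decide +kernel

/-- the generators of the code are pairwise orthogonal -/
theorem gen_dot_gen : ∀ u ∈ (Set.range qrWord ∪ {1} : Set (GolayPt → ZMod 2)),
    ∀ v ∈ (Set.range qrWord ∪ {1} : Set (GolayPt → ZMod 2)), dot u v = 0 := by
  rintro u (⟨s, rfl⟩ | rfl) v (⟨t, rfl⟩ | rfl)
  · exact qr_dot_qr s t
  · exact qr_dot_one s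
  · exact one_dot_qr t
  · exact one_dot_one

/-- the code is self-orthogonal -/
theorem golay_self_orth : ∀ u ∈ golayCode, ∀ v ∈ golayCode, dot u v = 0 := by
  intro u hu v hv
  unfold golayCode at hu hv
  induction hu using Submodule.span_induction with
  | mem x hx =>
    induction hv using Submodule.span_induction with
    | mem y hy => exact gen_dot_gen x hx y hy
    | zero => exact dot_zero_right _
    | add y z _ _ hy hz => rw [dot_add_right, hy, hz, add_zero]
    | smul a y _ hy => rw [dot_smul_right, hy, mul_zero]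
  | zero => exact dot_zero_left _
  | add y z _ _ hy hz => rw [dot_add_left, hy, hz, add_zero]
  | smul a y _ hy => rw [dot_smul_left, hy, mul_zero]

theorem zmod2_eq_one_of_ne_zero : ∀ a : ZMod 2, a ≠ 0 → a = 1 := by decide

/-- the dot product is the parity of the size of the intersection of supports -/
theorem dot_eq_card (u v : GolayPt → ZMod 2) :
    dot u v = (((support₂ u ∩ support₂ v).card : ℕ) : ZMod 2) := by
  unfold dot
  rw [Finset.card_eq_sum_ones, Nat.cast_sum, ← Finset.sum_subset (Finset.subset_univ _)]
  · apply Finset.sum_congr rfl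
    intro i hi
    simp only [support₂, Finset.mem_inter, Finset.mem_filter, Finset.mem_univ, true_and] at hi
    rw [zmod2_eq_one_of_ne_zero _ hi.1, zmod2_eq_one_of_ne_zero _ hi.2]
    simp
  · intro i _ hi
    simp only [support₂, Finset.mem_inter, Finset.mem_filter, Finset.mem_univ, true_and,
      not_and_or, not_not] at hi
    rcases hi with h | h <;> simp [h]

theorem inter_even_of_dot (u v : GolayPt → ZMod 2) (h : dot u v = 0) :
    Even (support₂ u ∩ support₂ v).card := by
  rw [dot_eq_card] at h
  rw [even_iff_two_dvd]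
  exact (ZMod.natCast_eq_zero_iff _ 2).mp h

theorem support₂_add (u v : GolayPt → ZMod 2) :
    support₂ (u + v) = symmDiff (support₂ u) (support₂ v) := by
  ext i
  simp only [support₂, Finset.mem_symmDiff, Finset.mem_filter, Finset.mem_univ, true_and,
    Pi.add_apply, not_not]
  have : ∀ a b : ZMod 2, a + b ≠ 0 ↔ (a ≠ 0 ∧ b = 0) ∨ (b ≠ 0 ∧ a = 0) := by decide
  exact this (u i) (v i)

theorem card_symmDiff_add (s t : Finset GolayPt) :
    (symmDiff s t).card + 2 * (s ∩ t).card = s.card + t.card := by
  have h1 : (symmDiff s t).card = (s \ t).card + (t \ s).card := by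
    rw [symmDiff_def, Finset.sup_eq_union]
    apply Finset.card_union_of_disjoint
    rw [Finset.disjoint_left]
    intro a ha hb
    rw [Finset.mem_sdiff] at ha hb
    exact ha.2 hb.1
  have h2 := Finset.card_sdiff_add_card_inter s t
  have h3 := Finset.card_sdiff_add_card_inter t s
  rw [Finset.inter_comm t s] at h3
  omega

/-- the code is doubly even -/
theorem golay_doubly_even : ∀ u ∈ golayCode, 4 ∣ (support₂ u).card := by
  intro u hu
  have key : ∀ u ∈ golayCode, ∀ v ∈ golayCode, 4 ∣ (support₂ u).card → 4 ∣ (support₂ v).card →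
      4 ∣ (support₂ (u + v)).card := by
    intro u hu v hv h1 h2
    have h3 := inter_even_of_dot u v (golay_self_orth u hu v hv)
    have h4 := card_symmDiff_add (support₂ u) (support₂ v)
    rw [support₂_add]
    obtain ⟨k, hk⟩ := h3
    omega
  have hgen : ∀ x ∈ (Set.range qrWord ∪ {1} : Set (GolayPt → ZMod 2)), 4 ∣ (support₂ x).card := by
    rintro x (⟨s, rfl⟩ | rfl)
    · rw [qr_card]; norm_num
    · rw [one_card]; norm_num
  have hmem : ∀ x, x ∈ Submodule.span (ZMod 2) (Set.range qrWord ∪ {1}) → x ∈ golayCode :=
    fun x hx => hx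
  unfold golayCode at hu
  induction hu using Submodule.span_induction with
  | mem x hx => exact hgen x hx
  | zero => simp [support₂]
  | add y z hy hz hy' hz' => exact key y (hmem y hy) z (hmem z hz) hy' hz'
  | smul a y _ hy =>
    have : a = 0 ∨ a = 1 := by revert a; decide
    rcases this with rfl | rfl
    · simp [support₂]
    · rw [one_smul]; exact hy

theorem supports_card (c : Finset GolayPt)
    (hc : c ∈ supports (golayCode : Set (GolayPt → ZMod 2))) : 4 ∣ c.card := by
  obtain ⟨u, hu, rfl⟩ := hc
  exact golay_doubly_even u hu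

theorem supports_inter_even (c d : Finset GolayPt)
    (hc : c ∈ supports (golayCode : Set (GolayPt → ZMod 2)))
    (hd : d ∈ supports (golayCode : Set (GolayPt → ZMod 2))) : Even (c ∩ d).card := by
  obtain ⟨u, hu, rfl⟩ := hc
  obtain ⟨v, hv, rfl⟩ := hd
  exact inter_even_of_dot u v (golay_self_orth u hu v hv)

theorem supports_symmDiff (c d : Finset GolayPt)
    (hc : c ∈ supports (golayCode : Set (GolayPt → ZMod 2)))
    (hd : d ∈ supports (golayCode : Set (GolayPt → ZMod 2))) :
    symmDiff c d ∈ supports (golayCode : Set (GolayPt → ZMod 2)) := by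
  obtain ⟨u, hu, rfl⟩ := hc
  obtain ⟨v, hv, rfl⟩ := hd
  exact ⟨u + v, golayCode.add_mem hu hv, support₂_add u v⟩

end Cfsg.Agent.Helper8
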