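import Mathlib
import Cfsg.Agent.Helper9.OrdTools
import Cfsg.Agent.Helper9.OrdTools2
import Cfsg.Agent.Helper8.SylFix
import Cfsg.Agent.Helper8.Ord459B
import Cfsg.Agent.S2807

/-!
# Order 4320: the number of Sylow `3`-subgroups is not `160` (helper8, piece Y of CALL S0977)

If `n_3 = 160` a Sylow `3`-subgroup `Q` is self-normalizing, and the Wielandt–Yoshida theorem
(`S2807`) maps `Q` onto a Sylow `3`-subgroup of `S_9`, of order `81 > 27`.
-/

set_option autoImplicit false
set_option maxHeartbeats 1000000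
set_option linter.style.haveILetI false

namespace Cfsg.Agent.Helper8

variable {G : Type*} [Group G] [Finite G]

theorem o4320_n3_ne_160 [IsSimpleGroup G] (hG : Nat.card G = 4320) :
    Nat.card (Sylow 3 G) ≠ 160 := by
  intro h160
  haveI : Fact (Nat.Prime 3) := ⟨by norm_num⟩
  obtain ⟨Q⟩ : Nonempty (Sylow 3 G) := inferInstance
  have hQ : Nat.card (Q : Subgroup G) = 27 := by
    have := Cfsg.Agent.Helper9.OrdTools.sylow_card 3 160 (hG.trans (by norm_num))
      (by norm_num) Q
    simpa using this
  obtain ⟨-, -, -, hN⟩ := Cfsg.Agent.Helper9.OrdTools.sylow_num Q (by rw [hQ]; norm_num)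
    (by rw [hQ, hG]; norm_num)
  rw [h160, hG] at hN
  have hN27 : Nat.card (Subgroup.normalizer ((Q : Subgroup G) : Set G)) = 27 := by omega
  have hNQ : Subgroup.normalizer ((Q : Subgroup G) : Set G) = (Q : Subgroup G) :=
    (Subgroup.eq_of_le_of_card_ge Subgroup.le_normalizer (by rw [hN27, hQ])).symm
  have hna : ∃ a b : G, a * b ≠ b * a :=
    Cfsg.Agent.Helper8.Ord459.exists_not_comm' Q (by rw [hQ]; norm_num) (by rw [hQ, hG]; norm_num)
  -- `G` is perfect
  have hperf : commutator G = ⊤ := by
    have hn : (commutator G).Normal := by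
      rw [commutator_def]
      infer_instance
    rcases hn.eq_bot_or_eq_top with h | h
    · exfalso
      obtain ⟨a, b, hab⟩ := hna
      apply hab
      have hc := Subgroup.commutator_mem_commutator (Subgroup.mem_top a) (Subgroup.mem_top b)
      rw [← commutator_def, h, Subgroup.mem_bot, commutatorElement_eq_one_iff_mul_comm] at hc
      exact hc
    · exact h
  -- the derived subgroup of `Q` is proper
  have hder : ⁅(Q : Subgroup G), (Q : Subgroup G)⁆ ≠ (Q : Subgroup G) := by
    intro h
    have hp : IsPGroup 3 ↥(Q : Subgroup G) := Q.isPGroup'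
    haveI : Group.IsNilpotent ↥(Q : Subgroup G) := hp.isNilpotent
    haveI : Nontrivial ↥(Q : Subgroup G) := by
      apply Finite.one_lt_card_iff_nontrivial.mp
      rw [hQ]
      norm_num
    have hlt := IsSolvable.commutator_lt_top_of_nontrivial ↥(Q : Subgroup G)
    have hmap : (commutator ↥(Q : Subgroup G)).map (Q : Subgroup G).subtype
        = (⊤ : Subgroup ↥(Q : Subgroup G)).map (Q : Subgroup G).subtype := by
      rw [Subgroup.map_subtype_commutator, h, ← MonoidHom.range_eq_map, Subgroup.range_subtype]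
    have := Subgroup.map_injective (Subgroup.subtype_injective (Q : Subgroup G)) hmap
    exact hlt.ne this
  have hle : ⁅(Q : Subgroup G), (Q : Subgroup G)⁆ ≤ (Q : Subgroup G) := by
    rw [Subgroup.commutator_le]
    intro g₁ h₁ g₂ h₂
    exact (Q : Subgroup G).mul_mem ((Q : Subgroup G).mul_mem ((Q : Subgroup G).mul_mem h₁ h₂)
      ((Q : Subgroup G).inv_mem h₁)) ((Q : Subgroup G).inv_mem h₂)
  obtain ⟨P', f, hf⟩ := Cfsg.Agent.S2807.result Q (by
    rw [hperf, hNQ, inf_top_eq, inf_eq_right.mpr hle]
    exact fun h => hder h.symm)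
  have hcardle : Nat.card ↥(P' : Subgroup (Equiv.Perm (Fin (3 ^ 2)))) ≤ 27 := by
    rw [← hQ]
    exact Nat.card_le_card_of_surjective f hf
  have hperm : Nat.card (Equiv.Perm (Fin (3 ^ 2))) = 3 ^ 4 * 4480 := by
    rw [Nat.card_perm, Nat.card_fin]
    decide
  have hP' := Cfsg.Agent.Helper9.OrdTools.sylow_card 4 4480 hperm (by norm_num) P'
  rw [hP'] at hcardle
  norm_num at hcardle

end Cfsg.Agent.Helper8
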