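/-
helper8: CALL S1356 (helper99), piece MFEQ: if `M_σ` is nilpotent then `M_F = M_σ`.
-/
import Mathlib
import Cfsg.Prelude.Def_OddOrderLocal
import Cfsg.Agent.Helper54.BG14T2
import Cfsg.Agent.Helper23.FittingHall
import Cfsg.Agent.Helper23.Trans
import Cfsg.Agent.Helper22.BG10b
import Cfsg.Agent.S1403

set_option autoImplicit false

namespace Cfsg.Agent.Helper8

open Cfsg Subgroup

universe u

variable {G : Type u} [Group G] [Finite G]

/-- MFEQ. If `M_σ` is nilpotent then `M_F = M_σ`. -/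
theorem bg56_MF_eq (hG : IsMinSimpleOddOrder G) {M : Subgroup G} (hM : IsCoatom M)
    (hnil : Group.IsNilpotent ↥(sigmaCore M)) : fittingHallOf M = sigmaCore M := by
  apply le_antisymm (Cfsg.Agent.Helper54.bg14t_fittingHall_le hG hM)
  obtain ⟨⟨hsM, hπ, hπ'⟩, -, -⟩ := Cfsg.Agent.Helper22.bg10_sigma_hall hG
    (fun K hK h1 h2 => Cfsg.Agent.S1403.result hG K hK h1 h2) hM
  refine Cfsg.Agent.Helper23.le_fittingHallOf M (sigmaCore M) hsM
    (Cfsg.Agent.Helper23.le_normalizer_piCoreOf (sigma M) M) hnil ?_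
  by_contra hcop
  obtain ⟨q, hq, hq1, hq2⟩ := Nat.Prime.not_coprime_iff_dvd.mp hcop
  exact hπ' q hq (hπ q hq hq1) hq2

end Cfsg.Agent.Helper8
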