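import Mathlib
import Cfsg.Agent.Helper72.Subnormal

/-!
# Flavell's generalisation of Wielandt's zipper lemma: supporting library (helper8)

`AClosed C H`: `C ≤ H` and no proper normal subgroup of `H` contains `C` (the normal closure of
`C` in `H` is `H`).  Basic facts about such subgroups, restriction of subnormality, the normal
closure `ncl T C` of `C` in `T`, and a descending-chain lemma.
-/

set_option autoImplicit false

namespace Cfsg.Agent.Helper8.Flavell

open Cfsg.Agent.Helper72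

variable {X : Type*} [Group X]

/-- `H` contains `C` and no proper normal subgroup of `H` contains `C`. -/
def AClosed (C H : Subgroup X) : Prop :=
  C ≤ H ∧ ∀ N : Subgroup X, C ≤ N → N ≤ H → H ≤ Subgroup.normalizer (N : Set X) → H ≤ N

theorem aclosed_self (C : Subgroup X) : AClosed C C := ⟨le_rfl, fun _ hCN _ _ => hCN⟩

/-- Restriction of subnormality to an intermediate subgroup. -/
theorem subnIn_restrict {T N : Subgroup X} (h : SubnIn T N) :
    ∀ H : Subgroup X, N ≤ H → H ≤ T → SubnIn H N := by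
  induction h with
  | refl T =>
    intro H hNH hHT
    have : H = T := le_antisymm hHT hNH
    rw [this]; exact SubnIn.refl T
  | step T T₁ N h1 h2 h3 ih =>
    intro H hNH hHT
    have hN1 : N ≤ H ⊓ T₁ := le_inf hNH h3.le
    have hsub := ih (H ⊓ T₁) hN1 inf_le_right
    refine SubnIn.step H (H ⊓ T₁) N inf_le_left ?_ hsub
    intro x hx
    rw [Subgroup.mem_normalizer_iff]
    intro y
    have hxT := Subgroup.mem_normalizer_iff.mp (h2 (hHT hx)) y
    constructor
    · rintro ⟨hyH, hyT⟩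
      exact ⟨H.mul_mem (H.mul_mem hx hyH) (H.inv_mem hx), hxT.mp hyT⟩
    · rintro ⟨hyH, hyT⟩
      refine ⟨?_, hxT.mpr hyT⟩
      have := H.mul_mem (H.mul_mem (H.inv_mem hx) hyH) hx
      simpa [mul_assoc] using this

/-- A `C`-closed subgroup has no proper subnormal subgroup containing `C`. -/
theorem AClosed.eq_of_subnIn {C T R : Subgroup X} (h : SubnIn T R) :
    AClosed C T → C ≤ R → R = T := by
  induction h with
  | refl T => intro _ _; rfl
  | step T T₁ R h1 h2 h3 ih =>
    intro hT hCR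
    have hT1 : T₁ = T := le_antisymm h1 (hT.2 T₁ (hCR.trans h3.le) h1 h2)
    subst hT1
    exact ih hT hCR

/-- Every subgroup containing `C` has a subnormal `C`-closed subgroup. -/
theorem exists_aclosed_subnIn [Finite X] (C : Subgroup X) :
    ∀ (n : ℕ) (H : Subgroup X), Nat.card H ≤ n → C ≤ H → ∃ S, SubnIn H S ∧ AClosed C S := by
  intro n
  induction n with
  | zero =>
    intro H hH
    have := Nat.card_pos (α := H)
    omega
  | succ n ih =>
    intro H hcard hCH
    by_cases hcl : AClosed C H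
    · exact ⟨H, SubnIn.refl H, hcl⟩
    · unfold AClosed at hcl
      push Not at hcl
      obtain ⟨N, hCN, hNH, hnorm, hnot⟩ := hcl hCH
      have hlt : N < H := lt_of_le_of_ne hNH (fun h => hnot (h ▸ le_rfl))
      have := card_lt_of_lt hlt
      obtain ⟨S, hS, hcS⟩ := ih N (by omega) hCN
      exact ⟨S, SubnIn.step H N S hNH hnorm hS, hcS⟩

theorem le_normalizer_inf_self {S N : Subgroup X} (h : S ≤ Subgroup.normalizer (N : Set X)) :
    S ≤ Subgroup.normalizer ((N ⊓ S : Subgroup X) : Set X) := by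
  intro x hx
  rw [Subgroup.mem_normalizer_iff]
  intro y
  have hxN := Subgroup.mem_normalizer_iff.mp (h hx) y
  constructor
  · rintro ⟨hyN, hyS⟩
    exact ⟨hxN.mp hyN, S.mul_mem (S.mul_mem hx hyS) (S.inv_mem hx)⟩
  · rintro ⟨hyN, hyS⟩
    refine ⟨hxN.mpr hyN, ?_⟩
    have := S.mul_mem (S.mul_mem (S.inv_mem hx) hyS) hx
    simpa [mul_assoc] using this

theorem AClosed.trans {A S H : Subgroup X} (h1 : AClosed A S) (h2 : AClosed S H) :
    AClosed A H := by
  refine ⟨h1.1.trans h2.1, fun N hAN hNH hnorm => ?_⟩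
  have hS : S ≤ N :=
    (h1.2 (N ⊓ S) (le_inf hAN h1.1) inf_le_right
      (le_normalizer_inf_self (h2.1.trans hnorm))).trans inf_le_left
  exact h2.2 N hS hNH hnorm

/-- The join of all proper `A`-closed subgroups. -/
def Ystar (A : Subgroup X) : Subgroup X := sSup {H | AClosed A H ∧ H ≠ ⊤}

theorem le_Ystar {A H : Subgroup X} (h : AClosed A H) (hH : H ≠ ⊤) : H ≤ Ystar A :=
  le_sSup ⟨h, hH⟩

theorem aclosed_Ystar {A : Subgroup X} (hA : A ≠ ⊤) : AClosed A (Ystar A) := by
  refine ⟨le_Ystar (aclosed_self A) hA, fun N hAN _ hnorm => ?_⟩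
  apply sSup_le
  rintro H ⟨hH, hHne⟩
  have hHY : H ≤ Ystar A := le_Ystar hH hHne
  exact (hH.2 (N ⊓ H) (le_inf hAN hH.1) inf_le_right
    (le_normalizer_inf_self (hHY.trans hnorm))).trans inf_le_left

theorem AClosed.map {C H : Subgroup X} (h : AClosed C H) (φ : X ≃* X) :
    AClosed (C.map φ.toMonoidHom) (H.map φ.toMonoidHom) := by
  refine ⟨Subgroup.map_mono h.1, fun N hCN hNH hnorm => ?_⟩
  have h1 : C ≤ N.map φ.symm.toMonoidHom := by
    have := Subgroup.map_mono (f := φ.symm.toMonoidHom) hCN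
    rwa [map_symm_map] at this
  have h2 : N.map φ.symm.toMonoidHom ≤ H := by
    have := Subgroup.map_mono (f := φ.symm.toMonoidHom) hNH
    rwa [map_symm_map] at this
  have h3 : H ≤ Subgroup.normalizer ((N.map φ.symm.toMonoidHom : Subgroup X) : Set X) := by
    have := (Subgroup.map_mono (f := φ.symm.toMonoidHom) hnorm).trans
      (Subgroup.le_normalizer_map _)
    rwa [map_symm_map] at this
  have := Subgroup.map_mono (f := φ.toMonoidHom) (h.2 _ h1 h2 h3)
  rwa [map_map_symm] at this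

/-- If `H` is `A`-closed then the normal closure of `A` inside `H` is everything. -/
theorem normalClosure_subgroupOf_eq_top {A H : Subgroup X} (h : AClosed A H) :
    Subgroup.normalClosure ((A.subgroupOf H : Subgroup ↥H) : Set ↥H) = ⊤ := by
  obtain ⟨C, hC⟩ : ∃ C : Subgroup ↥H,
      C = Subgroup.normalClosure ((A.subgroupOf H : Subgroup ↥H) : Set ↥H) := ⟨_, rfl⟩
  have hCn : C.Normal := by rw [hC]; exact Subgroup.normalClosure_normal
  have hAC : A.subgroupOf H ≤ C := by rw [hC]; exact Subgroup.subset_normalClosure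
  have hle : H ≤ C.map H.subtype := by
    apply h.2
    · intro a ha
      exact ⟨⟨a, h.1 ha⟩, hAC (Subgroup.mem_subgroupOf.mpr ha), rfl⟩
    · exact Subgroup.map_subtype_le C
    · intro x hx
      rw [Subgroup.mem_normalizer_iff]
      intro y
      constructor
      · rintro ⟨c, hc, rfl⟩
        exact ⟨⟨x, hx⟩ * c * ⟨x, hx⟩⁻¹, hCn.conj_mem c hc ⟨x, hx⟩, rfl⟩
      · rintro ⟨c, hc, hce⟩
        refine ⟨⟨x, hx⟩⁻¹ * c * ⟨x, hx⟩, ?_, ?_⟩
        · have := hCn.conj_mem c hc ⟨x, hx⟩⁻¹
          simpa using this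
        · simp only [Subgroup.subtype_apply, Subgroup.coe_mul, Subgroup.coe_inv] at hce ⊢
          rw [hce]
          group
  rw [← hC, eq_top_iff]
  intro y _
  obtain ⟨c, hc, hce⟩ := hle y.2
  have : c = y := Subtype.ext hce
  rw [← this]; exact hc

/-! ### Conjugates -/

/-- Conjugate of a subgroup. -/
scoped notation "cj(" S ", " g ")" => Subgroup.map (MulEquiv.toMonoidHom (MulAut.conj g)) S

theorem cj_mul (S : Subgroup X) (a b : X) : cj(S, a * b) = cj(cj(S, b), a) := map_conj_mul S a b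

theorem cj_one (S : Subgroup X) : cj(S, 1) = S := map_conj_one S

theorem cj_inv_cj (S : Subgroup X) (x : X) : cj(cj(S, x), x⁻¹) = S := map_conj_inv_map_conj S x

theorem cj_cj_inv (S : Subgroup X) (x : X) : cj(cj(S, x⁻¹), x) = S := map_conj_map_conj_inv S x

theorem cj_mono {S T : Subgroup X} (h : S ≤ T) (g : X) : cj(S, g) ≤ cj(T, g) := Subgroup.map_mono h

theorem card_cj (S : Subgroup X) (g : X) : Nat.card cj(S, g) = Nat.card S :=
  Subgroup.card_map_of_injective (MulAut.conj g).injective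

theorem cj_top (g : X) : cj((⊤ : Subgroup X), g) = ⊤ :=
  Subgroup.map_top_of_surjective _ (MulAut.conj g).surjective

theorem cj_ne_top {S : Subgroup X} (h : S ≠ ⊤) (g : X) : cj(S, g) ≠ ⊤ := by
  intro e
  apply h
  have h1 : cj(cj(S, g), g⁻¹) = cj((⊤ : Subgroup X), g⁻¹) := by rw [e]
  rwa [cj_inv_cj, cj_top] at h1

theorem coatom_eq_of_le {H L : Subgroup X} (h1 : IsCoatom H) (h2 : IsCoatom L) (hle : H ≤ L) :
    H = L := by
  by_contra hne
  exact h2.1 (h1.2 L (lt_of_le_of_ne hle hne))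

theorem isCoatom_cj {M : Subgroup X} (h : IsCoatom M) (g : X) : IsCoatom cj(M, g) := by
  refine ⟨cj_ne_top h.1 g, fun b hb => ?_⟩
  have h1 : M < cj(b, g⁻¹) := by
    have := (Subgroup.map_lt_map_iff_of_injective (f := (MulAut.conj g⁻¹).toMonoidHom)
      (MulAut.conj g⁻¹).injective).mpr hb
    rwa [cj_inv_cj] at this
  have h2 := h.2 _ h1
  have h3 : cj(cj(b, g⁻¹), g) = cj((⊤ : Subgroup X), g) := by rw [h2]
  rwa [cj_cj_inv, cj_top] at h3

theorem exists_coatom_ge [Finite X] {H : Subgroup X} (hH : H ≠ ⊤) :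
    ∃ L, IsCoatom L ∧ H ≤ L := by
  obtain ⟨M, hHM, hMlt, hmax⟩ := exists_max_lt (lt_top_iff_ne_top.mpr hH)
  refine ⟨M, ⟨hMlt.ne, fun b hb => ?_⟩, hHM⟩
  by_contra hbt
  exact hb.ne (hmax b hb.le (lt_top_iff_ne_top.mpr hbt)).symm

/-! ### Normal closure of `C` in `T` -/

/-- The subgroup generated by the `T`-conjugates of `C`. -/
def ncl (T C : Subgroup X) : Subgroup X := ⨆ t : T, cj(C, (t : X))

theorem cj_le_ncl {T C : Subgroup X} {t : X} (ht : t ∈ T) : cj(C, t) ≤ ncl T C :=
  le_iSup (fun t : T => cj(C, (t : X))) ⟨t, ht⟩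

theorem le_ncl {T C : Subgroup X} : C ≤ ncl T C := by
  have := cj_le_ncl (C := C) T.one_mem
  rwa [cj_one] at this

theorem ncl_le {T C N : Subgroup X} (h : ∀ t ∈ T, cj(C, t) ≤ N) : ncl T C ≤ N :=
  iSup_le fun t => h t t.2

theorem ncl_le_self {T C : Subgroup X} (h : C ≤ T) : ncl T C ≤ T :=
  ncl_le fun _ ht => map_conj_le_of_mem h ht

theorem le_normalizer_ncl {T C : Subgroup X} : T ≤ Subgroup.normalizer (ncl T C : Set X) := by
  apply le_normalizer_of_map_conj_le
  intro s hs
  rw [Subgroup.map_le_iff_le_comap]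
  apply ncl_le
  intro t ht
  rw [← Subgroup.map_le_iff_le_comap]
  have := cj_le_ncl (C := C) (T.mul_mem hs ht)
  rwa [cj_mul] at this

theorem ncl_le_of_normal {T T₁ C : Subgroup X} (h1 : C ≤ T₁)
    (h2 : T ≤ Subgroup.normalizer (T₁ : Set X)) : ncl T C ≤ T₁ :=
  ncl_le fun t ht => (cj_mono h1 t).trans (map_conj_eq_of_mem_normalizer T₁ t (h2 ht)).le

theorem ncl_ne_of_subnIn {T C : Subgroup X} (h : SubnIn T C) : T ≠ C → ncl T C ≠ T := by
  induction h with
  | refl T => intro h; exact absurd rfl h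
  | step T T₁ C h1 h2 h3 ih =>
    intro hne
    by_cases hT : T₁ = T
    · subst hT
      exact ih hne
    · intro e
      apply hT
      apply le_antisymm h1
      rw [← e]
      exact ncl_le_of_normal h3.le h2

/-- A generated-by-subnormals subgroup is subnormal. -/
theorem subnIn_ncl [Finite X] {H T C : Subgroup X} (h : ∀ t ∈ T, SubnIn H cj(C, t)) :
    SubnIn H (ncl T C) := by
  have h0 : SubnIn H cj(C, 1) ∧ cj(C, 1) ≤ ncl T C := ⟨h 1 T.one_mem, cj_le_ncl T.one_mem⟩
  obtain ⟨S, -, hmax⟩ := Finite.exists_le_maximal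
    (p := fun S : Subgroup X => SubnIn H S ∧ S ≤ ncl T C) h0
  have hle : ncl T C ≤ S := by
    apply ncl_le
    intro t ht
    have hp : SubnIn H (S ⊔ cj(C, t)) ∧ S ⊔ cj(C, t) ≤ ncl T C :=
      ⟨hmax.1.1.join (h t ht), sup_le hmax.1.2 (cj_le_ncl ht)⟩
    exact le_sup_right.trans (hmax.2 hp le_sup_left)
  have : S = ncl T C := le_antisymm hmax.1.2 hle
  rw [← this]; exact hmax.1.1

/-- Descending the normal-closure chain of a subnormal `C` until it enters `M₁`. -/
theorem chain_exists [Finite X] (C M₁ : Subgroup X) (Q : Subgroup X → Prop)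
    (hstep : ∀ T, Q T → C ≤ T → ¬ ncl T C ≤ M₁ → Q (ncl T C)) (hC : C ≤ M₁) :
    ∀ (n : ℕ) (T : Subgroup X), Nat.card T ≤ n → SubnIn T C → Q T → ¬ T ≤ M₁ →
      ∃ B, Q B ∧ ¬ B ≤ M₁ ∧ ncl B C ≤ M₁ := by
  intro n
  induction n with
  | zero =>
    intro T hT
    have := Nat.card_pos (α := T)
    omega
  | succ n ih =>
    intro T hcard hsub hQ hT
    by_cases hn : ncl T C ≤ M₁
    · exact ⟨T, hQ, hT, hn⟩
    · have hne : T ≠ C := fun h => hT (h ▸ hC)
      have hlt : ncl T C < T :=
        lt_of_le_of_ne (ncl_le_self hsub.le) (ncl_ne_of_subnIn hsub hne)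
      have := card_lt_of_lt hlt
      exact ih (ncl T C) (by omega) (subnIn_restrict hsub _ le_ncl (ncl_le_self hsub.le))
        (hstep T hQ hsub.le hn) hn

end Cfsg.Agent.Helper8.Flavell
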