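/-
helper8: CALL S90 (row S5990, helper98), shared hypothesis stage NDIVM = the MINUS-type version of
`Cfsg.Agent.Helper86.S88.s88_ndiv` (CALL S88).  Port of helper86's `el_xfer`, `el_badmax`
(`Helper86/ELBADMAX.lean`) and `el_ndiv_of_bad` (`Helper86/ELNDIVCore.lean`) with the ambient type
flipped to minus (`tb_xiso` at `δ = 1`).
-/
import Mathlib
import Cfsg.Prelude.Def_GeometricClasses
import Cfsg.Prelude.Def_Classical
import Cfsg.Agent.Helper35.S88Defs
import Cfsg.Agent.Helper86.ELNDIVCore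
import Cfsg.Agent.Helper86.ELBADMAX

set_option autoImplicit false
set_option linter.unusedSectionVars false
set_option linter.unusedVariables false

namespace Cfsg.Agent.Helper8.S90

open Module Polynomial Cfsg Cfsg.Geo Cfsg.Agent.Helper58.TS
open Cfsg.Agent.Helper43 Cfsg.Agent.Helper43.OrthEven Cfsg.Agent.Helper43.CycFactors
  Cfsg.Agent.Helper43.PrimeOrdMat
open Cfsg.Agent.Helper43.TB (tb_xiso)
open Cfsg.Agent.Helper37.TB (tb_blk_odd tb_blk_even)
open Cfsg.Agent.Helper35.TB (tb_fixed_space)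
open Cfsg.Agent.Helper13.TIu Cfsg.Agent.Helper96.OH
open Cfsg.Agent.Helper31.OH5992 Cfsg.Agent.Helper37.OH5992 Cfsg.Agent.Helper96.OHAll
open Cfsg.Agent.Helper86.EL5988 Cfsg.Agent.Helper35.S88
open scoped MatrixGroups

universe u

variable {F : Type u} [Field F] [Fintype F]

/-- transport of an isometry of a model space of minus type to `Q` (minus type). -/
theorem el_xfer_minus {ι : Type} [Fintype ι] [DecidableEq ι] (Q : (ι → F) → F)
    (hQ : IsNondegenerateQuadraticForm Q) (d : ℕ) (hd : 1 ≤ d)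
    (hcard : Fintype.card ι = 2 * d) (hminus : ¬ IsPlusTypeOn Q ⊤) (r : ℕ) {V' : Type u}
    [AddCommGroup V'] [Module F V'] [FiniteDimensional F V'] (Q' : QuadraticForm F V')
    (hnd : PolarNondeg Q') (hdim : finrank F V' = 2 * d) (htype : ¬ HasTS Q' d)
    (T : Module.End F V') (hT : ∀ v, Q' (T v) = Q' v) (hTr : T ^ r = 1) :
    ∃ T' : Module.End F (ι → F), OPres Q T' ∧ T' ^ r = 1 ∧
      finrank F (LinearMap.ker (T' - 1)) = finrank F (LinearMap.ker (T - 1)) := by
  classical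
  obtain ⟨Φ, hΦ⟩ := tb_xiso Q hQ d 1 hd hcard (typeDefect_minus hminus) Q' hnd hdim
    ⟨fun h => absurd h htype, fun h => absurd h one_ne_zero⟩
  obtain ⟨T', hT'app⟩ : ∃ T' : Module.End F (ι → F), ∀ x, T' x = Φ (T (Φ.symm x)) :=
    ⟨(Φ : V' →ₗ[F] (ι → F)) ∘ₗ T ∘ₗ (Φ.symm : (ι → F) →ₗ[F] V'), fun x => rfl⟩
  have hpow : ∀ n : ℕ, ∀ x, (T' ^ n) x = Φ ((T ^ n) (Φ.symm x)) := by
    intro n
    induction n with
    | zero =>
      intro x
      rw [pow_zero, pow_zero, Module.End.one_apply, Module.End.one_apply,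
        LinearEquiv.apply_symm_apply]
    | succ n ih =>
      intro x
      rw [pow_succ, Module.End.mul_apply, ih, hT'app, LinearEquiv.symm_apply_apply, pow_succ,
        Module.End.mul_apply]
  have hkereq : LinearMap.ker (T' - 1) =
      (LinearMap.ker (T - 1)).map (Φ : V' →ₗ[F] (ι → F)) := by
    ext x
    rw [LinearMap.mem_ker, LinearMap.sub_apply, Module.End.one_apply, sub_eq_zero, hT'app,
      Submodule.mem_map]
    constructor
    · intro h
      refine ⟨Φ.symm x, ?_, LinearEquiv.apply_symm_apply Φ x⟩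
      rw [LinearMap.mem_ker, LinearMap.sub_apply, Module.End.one_apply, sub_eq_zero]
      apply Φ.injective
      rw [h, LinearEquiv.apply_symm_apply]
    · rintro ⟨v, hv, rfl⟩
      rw [LinearMap.mem_ker, LinearMap.sub_apply, Module.End.one_apply, sub_eq_zero] at hv
      show Φ (T (Φ.symm (Φ v))) = Φ v
      rw [LinearEquiv.symm_apply_apply, hv]
  refine ⟨T', ?_, ?_, ?_⟩
  · intro v
    rw [hT'app, hΦ, hT, ← hΦ, LinearEquiv.apply_symm_apply]
  · apply LinearMap.ext
    intro x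
    rw [hpow, hTr, Module.End.one_apply, LinearEquiv.apply_symm_apply, Module.End.one_apply]
  · rw [hkereq, LinearEquiv.finrank_map_eq]

/-- BADMAX, minus type: an isometry of `Q` (minus type, `|ι| = 2 d`) with `T ^ r = 1` whose fixed space has
dimension `(2 d) % c`. -/
theorem el_badmax_minus {ι : Type} [Fintype ι] [DecidableEq ι] (Q : (ι → F) → F)
    (hQ : IsNondegenerateQuadraticForm Q) (d : ℕ) (hcard : Fintype.card ι = 2 * d)
    (hminus : ¬ IsPlusTypeOn Q ⊤) (p : ℕ) [Fact p.Prime] [CharP F p] (r : ℕ) [Fact r.Prime]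
    (hr2 : 2 < r) (hrp : r ≠ p) (i c : ℕ) (hi : i = orderOf ((Fintype.card F : ℕ) : ZMod r))
    (hc : c = if Even i then i else 2 * i) (hcd : c ≤ 2 * d) (hpos : 0 < (2 * d) % c) :
    ∃ T : Module.End F (ι → F), OPres Q T ∧ T ^ r = 1 ∧
      finrank F (LinearMap.ker (T - 1)) = (2 * d) % c := by
  classical
  have hr : r.Prime := Fact.out
  have hipos : 0 < i := by rw [hi]; exact orderOf_pos_of_card (p := p) rfl hr hrp
  have hrF : (r : F) ≠ 0 := natCast_ne_zero_of_ne (p := p) hr hrp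
  have hd1 : 1 ≤ d := by
    rcases Nat.eq_zero_or_pos d with h | h
    · subst h
      simp at hpos
    · exact h
  rcases Nat.even_or_odd i with heven | hodd
  · -- `c = i`
    rw [if_pos heven] at hc
    have hc' : i = c := hc.symm
    subst hc'
    have heven' : Even (orderOf ((Fintype.card F : ℕ) : ZMod r)) := by rw [← hi]; exact heven
    obtain ⟨j, hj⟩ := heven
    have hj2 : i / 2 = j := by omega
    have hcardJ : (cycJ F r).card * i = r - 1 := by
      rw [hi]; exact cycJ_card_mul (p := p) rfl hr hrp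
    have hne : (cycJ F r).Nonempty := by
      rw [← Finset.card_pos]
      by_contra h
      have h0 : (cycJ F r).card = 0 := by omega
      rw [h0, zero_mul] at hcardJ
      omega
    obtain ⟨P, hP⟩ := hne
    obtain ⟨A, hA⟩ : ∃ A, A = (2 * d) / i := ⟨_, rfl⟩
    obtain ⟨ρ, hρ⟩ : ∃ ρ, ρ = (2 * d) % i := ⟨_, rfl⟩
    obtain ⟨V₁, _, _, _, Q₁, T₁, hnd₁, hT₁, hcyc₁, -, hfr₁, hts₁, -⟩ :=
      tb_blk_even (F := F) p r hr2 hrp heven' P hP A
    rw [← hi, hj2] at hfr₁ hts₁
    have hdm := Nat.div_add_mod (2 * d) i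
    rw [← hA, ← hρ] at hdm
    rw [← hρ] at hpos ⊢
    have hiA : i * A = 2 * (j * A) := by rw [hj]; ring
    obtain ⟨k₀, hk₀⟩ : ∃ k₀, ρ = 2 * k₀ := ⟨ρ / 2, by omega⟩
    have hk₀1 : 1 ≤ k₀ := by omega
    obtain ⟨ε₀, hε₀⟩ : ∃ ε₀ : ℕ, ε₀ = if Even A then 1 else 0 := ⟨_, rfl⟩
    have hε1 : ε₀ ≤ 1 := by
      rw [hε₀]
      split_ifs <;> omega
    obtain ⟨V', _, _, _, Q', T, hnd', hdim', htype', hT', hTr, hker⟩ :=
      el_glue r hrF Q₁ T₁ hnd₁ hT₁ hcyc₁ (j * A) hfr₁ k₀ ε₀ hε1 (by omega)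
    have hkl : k₀ + j * A = d := by omega
    rw [hkl] at hdim' htype'
    have htype : ¬ HasTS Q' d := by
      rw [htype', hts₁, hε₀]
      by_cases hA2 : Even A
      · rw [if_pos hA2]
        exact fun h => one_ne_zero (h.mpr hA2)
      · rw [if_neg hA2]
        exact fun h => hA2 (h.mp rfl)
    obtain ⟨T', hT'1, hT'2, hT'3⟩ :=
      el_xfer_minus Q hQ d hd1 hcard hminus r Q' hnd' hdim' htype T hT' hTr
    exact ⟨T', hT'1, hT'2, by rw [hT'3, hker, hk₀]⟩
  · -- `c = 2 i`
    have hne : ¬ Even i := Nat.not_even_iff_odd.mpr hodd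
    rw [if_neg hne] at hc
    subst hc
    have hodd' : Odd (orderOf ((Fintype.card F : ℕ) : ZMod r)) := by rw [← hi]; exact hodd
    obtain ⟨V₁, _, _, _, Q₁, T₁, hnd₁, hT₁, hcyc₁, hfr₁, hts₁, -⟩ :=
      tb_blk_odd (F := F) p r hr2 hrp hodd' (d / i)
    rw [← hi] at hfr₁ hts₁
    have hmod : (2 * d) % (2 * i) = 2 * (d % i) := Nat.mul_mod_mul_left 2 d i
    have hdm := Nat.div_add_mod d i
    have hdi1 : 1 ≤ d % i := by
      rw [hmod] at hpos
      omega
    obtain ⟨V', _, _, _, Q', T, hnd', hdim', htype', hT', hTr, hker⟩ :=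
      el_glue r hrF Q₁ T₁ hnd₁ hT₁ hcyc₁ (i * (d / i)) hfr₁ (d % i) 1 (le_refl 1) hdi1
    have hkl : d % i + i * (d / i) = d := by omega
    rw [hkl] at hdim' htype'
    have htype : ¬ HasTS Q' d := fun h => one_ne_zero ((htype'.mp h).mpr hts₁)
    obtain ⟨T', hT'1, hT'2, hT'3⟩ :=
      el_xfer_minus Q hQ d hd1 hcard hminus r Q' hnd' hdim' htype T hT' hTr
    exact ⟨T', hT'1, hT'2, by rw [hT'3, hker, hmod]⟩

/-- NDIV from a bad element, minus type: an isometry of order `r` with a small fixed space. -/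
theorem el_ndiv_of_bad_minus {ι : Type} [Fintype ι] [DecidableEq ι] (Q : (ι → F) → F)
    (hQ : IsNondegenerateQuadraticForm Q) (hminus : ¬ OPl Q ⊤)
    (d : ℕ) (hcard : Fintype.card ι = 2 * d)
    (r : ℕ) [Fact r.Prime] (hr2 : 2 < r) (hrF : (r : F) ≠ 0) (i c : ℕ)
    (hi : i = orderOf ((Fintype.card F : ℕ) : ZMod r)) (hc : c = if Even i then i else 2 * i)
    (m : ℕ) (hme : Even m) (hm0 : 0 < m) (hmc : m < c)
    (T : Module.End F (ι → F)) (hT : OPres Q T) (hTr : T ^ r = 1)
    (hfix : finrank F (LinearMap.ker (T - 1)) < c)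
    (hk : m < finrank F (LinearMap.ker (T - 1)) ∨
      (m = finrank F (LinearMap.ker (T - 1)) ∧ (Odd i ∨ Even (Fintype.card ι / i)))) :
    ¬ r ∣ Nat.card {W : Submodule F (ι → F) // finrank F W = m ∧ ONd Q W ∧ ¬ OPl Q W} := by
  classical
  have hrpr : r.Prime := Fact.out
  have hinj : Function.Injective T := by
    have h1 : T ^ (r - 1) * T = 1 := by
      rw [← pow_succ, Nat.sub_add_cancel hrpr.one_le, hTr]
    intro u v huv
    have h2 := congrArg (T ^ (r - 1)) huv
    rw [← Module.End.mul_apply, ← Module.End.mul_apply, h1] at h2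
    exact h2
  have hcev : Even c := by
    rw [hc]
    split_ifs with h
    · exact h
    · exact even_two_mul i
  -- the fixed space and its complement
  obtain ⟨hCnd, P, -, hPT, hPnd, hPk, hsup, horth, hdim⟩ :=
    o_fix Q hQ T hT r hrpr.pos hrF hTr ⊤ le_top (ond_top Q hQ)
  rw [top_inf_eq] at hCnd hsup horth hdim
  rw [finrank_top, Module.finrank_fintype_fun_eq_card] at hdim
  have hcP : c ∣ finrank F P := by
    have h1 := oall_cdvd Q hQ T hT r hr2 hrF hTr i c hi hc P hPT hPnd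
    rw [hPk, finrank_bot, Nat.sub_zero] at h1
    exact h1
  have hPev : Even (finrank F P) := hcev.trans_dvd hcP
  have hCev : Even (finrank F (LinearMap.ker (T - 1))) := by
    obtain ⟨a, ha⟩ := hPev
    exact ⟨d - a, by omega⟩
  -- the fixed point congruence
  have hcong := o_fix_congr T r hTr (fun W => finrank F W = m ∧ ONd Q W ∧ ¬ OPl Q W)
    (fun W hW => el_pres_map Q hQ T hT hinj m W hW)
  have hinC : ∀ W : Submodule F (ι → F), (finrank F W = m ∧ ONd Q W ∧ ¬ OPl Q W) →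
      W.map T ≤ W → W ≤ LinearMap.ker (T - 1) := by
    intro W hW hWT
    have h1 := oall_cdvd Q hQ T hT r hr2 hrF hTr i c hi hc W hWT hW.2.1
    have h3 : finrank F (W ⊓ LinearMap.ker (T - 1) : Submodule F (ι → F)) ≤ finrank F W :=
      Submodule.finrank_mono inf_le_left
    have h2 : finrank F W - finrank F (W ⊓ LinearMap.ker (T - 1) : Submodule F (ι → F)) = 0 :=
      Nat.eq_zero_of_dvd_of_lt h1 (by rw [hW.1]; omega)
    have h4 : W ⊓ LinearMap.ker (T - 1) = W :=
      Submodule.eq_of_le_of_finrank_eq inf_le_left (by omega)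
    rw [← h4]
    exact inf_le_right
  have hCfix : ∀ W : Submodule F (ι → F), W ≤ LinearMap.ker (T - 1) → W.map T ≤ W := by
    rintro W hW _ ⟨w, hw, rfl⟩
    have h1 := hW hw
    rw [LinearMap.mem_ker, LinearMap.sub_apply, Module.End.one_apply, sub_eq_zero] at h1
    rw [h1]
    exact hw
  have hcard2 : Nat.card {W : Submodule F (ι → F) //
      (finrank F W = m ∧ ONd Q W ∧ ¬ OPl Q W) ∧ W.map T ≤ W} =
      Nat.card {W : Submodule F (ι → F) //
        (finrank F W = m ∧ ONd Q W ∧ ¬ OPl Q W) ∧ W ≤ LinearMap.ker (T - 1)} :=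
    Nat.card_congr (Equiv.subtypeEquivRight (fun W =>
      ⟨fun h => ⟨h.1, hinC W h.1 h.2⟩, fun h => ⟨h.1, hCfix W h.2⟩⟩))
  rw [hcard2] at hcong
  intro hr
  have hr' : r ∣ Nat.card {W : Submodule F (ι → F) //
      (finrank F W = m ∧ ONd Q W ∧ ¬ OPl Q W) ∧ W ≤ LinearMap.ker (T - 1)} :=
    (Nat.ModEq.dvd_iff hcong (dvd_refl r)).mp hr
  rcases hk with hk | ⟨hmeq, hty⟩
  · obtain ⟨k, hk'⟩ := hCev
    obtain ⟨X, hXC, hXnd, hXdim, hXty⟩ := Cfsg.Agent.Helper35.EL.el_sub Q hQ
      (LinearMap.ker (T - 1)) hCnd k (by omega) m hme hm0 (by omega) False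
    exact el_ndiv_core Q hQ r hr2 hrF i c hi hc m hme _ hCnd hfix X
      ⟨⟨hXdim, hXnd, fun h => hXty.mp h⟩, hXC⟩ hr'
  · -- the fixed space itself is the only elliptic `m`-subspace
    have hPpl : OPl Q P := by
      rcases Nat.even_or_odd i with hev | hodd
      · have hev2 : Even (Fintype.card ι / i) := by
          rcases hty with h | h
          · exact absurd hev (Nat.not_even_iff_odd.mpr h)
          · exact h
        have hci : c = i := by rw [hc, if_pos hev]
        obtain ⟨t, ht⟩ := hcP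
        rw [hci] at ht
        have hi0 : 0 < i := by omega
        have hmi : m < i := by omega
        have hdivP : finrank F P / i = t := by
          rw [ht]
          exact Nat.mul_div_cancel_left t hi0
        have hdivι : Fintype.card ι / i = t := by
          have h1 : Fintype.card ι = m + i * t := by omega
          rw [h1, Nat.add_mul_div_left m t hi0, Nat.div_eq_of_lt hmi, zero_add]
        apply (oall_type_even Q hQ T hT r hr2 hrF hTr (hi ▸ hev) P hPT hPnd hPk).mpr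
        rw [← hi, hdivP]
        rw [hdivι] at hev2
        exact hev2
      · exact oall_type_odd Q hQ T hT r hr2 hrF hTr (hi ▸ hodd) P hPT hPnd hPk
    have hCnpl : ¬ OPl Q (LinearMap.ker (T - 1)) := by
      intro hpl
      have h1 := Cfsg.Agent.Helper33.o_type_mul Q hQ (LinearMap.ker (T - 1)) P hCnd hPnd horth
        hCev hPev
      rw [hsup] at h1
      exact hminus (h1.mpr ⟨fun _ => hPpl, fun _ => hpl⟩)
    have huniq : Nat.card {W : Submodule F (ι → F) //
        (finrank F W = m ∧ ONd Q W ∧ ¬ OPl Q W) ∧ W ≤ LinearMap.ker (T - 1)} = 1 := by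
      rw [Nat.card_eq_one_iff_unique]
      refine ⟨⟨fun a b => Subtype.ext ?_⟩,
        ⟨⟨LinearMap.ker (T - 1), ⟨hmeq.symm, hCnd, hCnpl⟩, le_refl _⟩⟩⟩
      have ha : a.1 = LinearMap.ker (T - 1) :=
        Submodule.eq_of_le_of_finrank_eq a.2.2 (by rw [a.2.1.1, hmeq])
      have hb : b.1 = LinearMap.ker (T - 1) :=
        Submodule.eq_of_le_of_finrank_eq b.2.2 (by rw [b.2.1.1, hmeq])
      rw [ha, hb]
    rw [huniq] at hr'
    exact hrpr.ne_one (Nat.dvd_one.mp hr')

/-- NDIVM (CALL S90): minus-type version of `Helper86.S88.s88_ndiv`. -/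
theorem s90_ndiv {ι : Type} [Fintype ι] [DecidableEq ι] {p : ℕ} [Fact p.Prime] [CharP F p]
    {q : ℕ} (hq : Fintype.card F = q)
    (Q : (ι → F) → F) (hQ : IsNondegenerateQuadraticForm Q) (d m : ℕ)
    (hcard : Fintype.card ι = 2 * d) (hminus : ¬ IsPlusTypeOn Q ⊤)
    (hm : 2 ≤ m) (hme : Even m) (r : ℕ) [Fact r.Prime] (hr2 : 2 < r) (hrp : r ≠ p)
    (i c : ℕ) (hi : i = orderOf (q : ZMod r)) (hc : c = if Even i then i else 2 * i)
    (hmc : m < c) (hcd : c ≤ 2 * d)
    (hk : m < (2 * d) % c ∨ (m = (2 * d) % c ∧ (Odd i ∨ Even ((2 * d) / i)))) :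
    ¬ r ∣ Nat.card {W : Submodule F (ι → F) // Module.finrank F ↥W = m ∧
      IsNondegenerateOn (QuadraticMap.polar Q) W ∧ ¬ IsPlusTypeOn Q W} := by
  subst hq
  have hr : r.Prime := Fact.out
  have hrF : (r : F) ≠ 0 :=
    Cfsg.Agent.Helper43.CycFactors.natCast_ne_zero_of_ne (p := p) hr hrp
  have hpos : 0 < (2 * d) % c := by
    rcases hk with h | ⟨h, -⟩ <;> omega
  obtain ⟨T, hT, hTr, hker⟩ :=
    el_badmax_minus Q hQ d hcard hminus p r hr2 hrp i c hi hc hcd hpos
  have hcpos : 0 < c := by omega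
  have hfix : finrank F (LinearMap.ker (T - 1)) < c := by
    rw [hker]
    exact Nat.mod_lt _ hcpos
  exact el_ndiv_of_bad_minus Q hQ hminus d hcard r hr2 hrF i c hi hc m hme
    (by omega) hmc T hT hTr hfix (by rw [hker, hcard]; exact hk)

end Cfsg.Agent.Helper8.S90
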