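/-
helper8: CALL S2314 (helper40), piece T1A: double count of (p-element, fixed coset).
-/
import Mathlib
import Cfsg.Prelude.Def_ParabolicCharacters

set_option autoImplicit false
set_option linter.unusedVariables false

namespace Cfsg.Agent.Helper8.UCT1A

/-- `x` fixes the coset `gH` iff `g⁻¹ x g ∈ H`. -/
theorem smul_coset_eq_iff {X : Type*} [Group X] (H : Subgroup X) (x g : X) :
    x • (g : X ⧸ H) = (g : X ⧸ H) ↔ g⁻¹ * x * g ∈ H := by
  rw [MulAction.Quotient.smul_mk, smul_eq_mul, eq_comm, QuotientGroup.eq, mul_assoc]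

open Classical in
/-- The number of elements `x` with `P x` fixing the coset `q` is the number of such elements of `H`,
for a conjugation invariant property `P`. -/
theorem card_fix_coset {X : Type*} [Group X] [Fintype X] (H : Subgroup X) (P : X → Prop)
    (hP : ∀ g x : X, P x → P (g⁻¹ * x * g)) (q : X ⧸ H) :
    (Finset.univ.filter (fun x : X => P x ∧ x • q = q)).card =
      Nat.card {h : X // h ∈ H ∧ P h} := by
  induction q using QuotientGroup.induction_on with
  | H g =>
    rw [Nat.card_eq_fintype_card, Fintype.card_subtype]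
    apply Finset.card_bij (fun x _ => g⁻¹ * x * g)
    · intro x hx
      simp only [Finset.mem_filter, Finset.mem_univ, true_and] at hx ⊢
      exact ⟨(smul_coset_eq_iff H x g).mp hx.2, hP g x hx.1⟩
    · intro x _ y _ h
      simpa using h
    · intro h hh
      simp only [Finset.mem_filter, Finset.mem_univ, true_and] at hh ⊢
      refine ⟨g * h * g⁻¹, ⟨?_, ?_⟩, by group⟩
      · have := hP g⁻¹ h hh.2
        simpa using this
      · rw [smul_coset_eq_iff]
        have : g⁻¹ * (g * h * g⁻¹) * g = h := by group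
        rw [this]
        exact hh.1

open Classical in
/-- T1A (pure Mathlib): double count of (p-element, fixed coset). -/
theorem sum_fpc_pelts {X : Type*} [Group X] [Fintype X] (H : Subgroup X) (p : ℕ) :
    (∑ x : X, if (∃ k : ℕ, orderOf x = p ^ k) then Cfsg.fixedPointCharacter H x else 0) =
      (H.index : ℂ) * (Nat.card {h : X // h ∈ H ∧ ∃ k : ℕ, orderOf h = p ^ k} : ℂ) := by
  have : Fintype (X ⧸ H) := Fintype.ofFinite _
  have hconj : ∀ g x : X, (∃ k : ℕ, orderOf x = p ^ k) → ∃ k : ℕ, orderOf (g⁻¹ * x * g) = p ^ k := by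
    rintro g x ⟨k, hk⟩
    refine ⟨k, ?_⟩
    have h := (SemiconjBy.conj_mk g⁻¹ x).orderOf_eq
    rw [inv_inv] at h
    rw [← h, hk]
  have h1 : ∀ x : X, Cfsg.fixedPointCharacter H x =
      ((Finset.univ.filter (fun q : X ⧸ H => x • q = q)).card : ℂ) := by
    intro x
    unfold Cfsg.fixedPointCharacter
    congr 1
    rw [Nat.card_eq_fintype_card]
    exact Fintype.card_of_subtype _ (fun q => by simp [MulAction.mem_fixedBy])
  have h2 : ∀ x : X, (if (∃ k : ℕ, orderOf x = p ^ k) then Cfsg.fixedPointCharacter H x else 0) =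
      ∑ q : X ⧸ H, if ((∃ k : ℕ, orderOf x = p ^ k) ∧ x • q = q) then (1 : ℂ) else 0 := by
    intro x
    rw [h1 x]
    by_cases hx : ∃ k : ℕ, orderOf x = p ^ k
    · simp only [hx, if_true, true_and]
      rw [Finset.sum_boole]
    · simp [hx]
  rw [Finset.sum_congr rfl (fun x _ => h2 x), Finset.sum_comm]
  have h3 : ∀ q : X ⧸ H,
      (∑ x : X, if ((∃ k : ℕ, orderOf x = p ^ k) ∧ x • q = q) then (1 : ℂ) else 0) =
        (Nat.card {h : X // h ∈ H ∧ ∃ k : ℕ, orderOf h = p ^ k} : ℂ) := by
    intro q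
    rw [Finset.sum_boole, card_fix_coset H (fun x => ∃ k : ℕ, orderOf x = p ^ k) hconj q]
  rw [Finset.sum_congr rfl (fun q _ => h3 q), Finset.sum_const, Finset.card_univ, nsmul_eq_mul,
    Subgroup.index_eq_card, Nat.card_eq_fintype_card (α := X ⧸ H)]

end Cfsg.Agent.Helper8.UCT1A
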